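import Groth.Agent.PBasisLib.Basic
import Mathlib.FieldTheory.KummerPolynomial
import Mathlib.RingTheory.Kaehler.Basic
import Mathlib.FieldTheory.IntermediateField.Adjoin.Basic
import Mathlib.Order.Zorn

/-!
`p`-independence in fields.
-/

set_option autoImplicit false
universe u

namespace Groth.Agent.PBasisLib

variable (p : ℕ) [Fact p.Prime] (k : Type u) {K : Type u} [Field k] [Field K] [Algebra k K] [CharP K p]

open EGA41 (pPowerSubalgebra pMonomial IsPBasis IsPGenerating IsPIndependent)

/-- `k(Kᵖ, S)` as an algebra. -/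
def F (S : Set K) : Subalgebra k K := Algebra.adjoin k ((Set.range fun b : K => b ^ p) ∪ S)

variable {p k}

theorem F_mono {S T : Set K} (h : S ⊆ T) : F p k S ≤ F p k T := Algebra.adjoin_mono (Set.union_subset_union_right _ h)

theorem subset_F (S : Set K) : S ⊆ (F p k S : Set K) := fun _ h => Algebra.subset_adjoin (Or.inr h)

theorem pow_mem_F (S : Set K) (b : K) : b ^ p ∈ F p k S := Algebra.subset_adjoin (Or.inl ⟨b, rfl⟩)

theorem F_le {S : Set K} {T : Set K} (h : S ⊆ (F p k T : Set K)) : F p k S ≤ F p k T :=
  Algebra.adjoin_le (Set.union_subset (by rintro _ ⟨b, rfl⟩; exact pow_mem_F T b) h)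

theorem inv_mem_F (S : Set K) {b : K} (hb : b ∈ F p k S) : b⁻¹ ∈ F p k S := by
  rcases eq_or_ne b 0 with rfl | h0
  · simp
  have : b⁻¹ = b⁻¹ ^ p * b ^ (p - 1) := by
    have h1 : b⁻¹ ^ p = b⁻¹ * b⁻¹ ^ (p - 1) := by
      rw [← pow_succ', Nat.sub_add_cancel (Fact.out : p.Prime).one_le]
    rw [h1, mul_assoc, ← mul_pow, inv_mul_cancel₀ h0, one_pow, mul_one]
  rw [this]
  exact mul_mem (pow_mem_F S _) (_root_.pow_mem hb _)

variable (p k) in
/-- `k(Kᵖ, S)` as a field. -/
def FF (S : Set K) : IntermediateField k K := (F p k S).toIntermediateField fun _ hx => inv_mem_F S hx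

theorem adjoin_eq_FF (S : Set K) :
    IntermediateField.adjoin k ((Set.range fun b : K => b ^ p) ∪ S) = FF p k S := by
  refine le_antisymm (IntermediateField.adjoin_le_iff.2 fun x hx => Algebra.subset_adjoin hx) ?_
  intro x hx
  exact IntermediateField.algebra_adjoin_le_adjoin k _ hx

theorem mem_adjoin_C_iff (S : Set K) (b : K) :
    b ∈ Algebra.adjoin (pPowerSubalgebra p k K) S ↔ b ∈ F p k S := by
  constructor
  · intro hb
    induction hb using Algebra.adjoin_induction with
    | mem y hy => exact subset_F S hy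
    | algebraMap r => exact Algebra.adjoin_mono Set.subset_union_left r.2
    | add y z _ _ hy hz => exact add_mem hy hz
    | mul y z _ _ hy hz => exact mul_mem hy hz
  · intro hb
    have hle : F p k S ≤ (Algebra.adjoin (pPowerSubalgebra p k K) S).restrictScalars k := by
      refine Algebra.adjoin_le (Set.union_subset ?_ fun y hy => Algebra.subset_adjoin hy)
      rintro _ ⟨y, rfl⟩
      exact (Algebra.adjoin (pPowerSubalgebra p k K) S).algebraMap_mem ⟨_, PBasisLib.pow_mem y⟩
    exact hle hb

theorem isPGenerating_iff {ι : Type u} (x : ι → K) :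
    IsPGenerating p k x ↔ ∀ b : K, b ∈ F p k (Set.range x) := by
  rw [isPGenerating_iff_adjoin (Fact.out : p.Prime).pos, Algebra.eq_top_iff]
  exact forall_congr' fun b => mem_adjoin_C_iff _ b

/-- Degree over `k(Kᵖ, S)` of an element outside. -/
theorem natDegree_minpoly {S : Set K} {a : K} (ha : a ∉ F p k S) :
    (minpoly (FF p k S) a).natDegree = p ∧ IsIntegral (FF p k S) a := by
  let c : FF p k S := ⟨a ^ p, pow_mem_F S a⟩
  have hirr : Irreducible (Polynomial.X ^ p - Polynomial.C c) := by
    refine X_pow_sub_C_irreducible_of_prime Fact.out fun b hb => ha ?_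
    have h1 : (b : K) ^ p = a ^ p := congrArg Subtype.val hb
    have h2 : ((b : K) - a) ^ p = 0 := by rw [sub_pow_char, h1, sub_self]
    rw [← sub_eq_zero.1 (eq_zero_of_pow_eq_zero h2)]
    exact b.2
  have hmon : (Polynomial.X ^ p - Polynomial.C c).Monic := Polynomial.monic_X_pow_sub_C c (Fact.out : p.Prime).ne_zero
  have hev : Polynomial.aeval a (Polynomial.X ^ p - Polynomial.C c) = 0 := by
    simp [c, IntermediateField.algebraMap_apply]
  refine ⟨?_, ⟨_, hmon, hev⟩⟩
  rw [← minpoly.eq_of_irreducible_of_monic hirr hev hmon, Polynomial.natDegree_X_pow_sub_C]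

/-- The monomials only involving `s` are independent. -/
theorem linearCombination_eq_zero {ι : Type u} {x : ι → K} (h : ∀ a : ι, x a ∉ F p k (x '' {b | b ≠ a}))
    (s : Finset ι) : ∀ l : (ι →₀ ℕ) →₀ pPowerSubalgebra p k K,
      (∀ e ∈ l.support, e.support ⊆ s ∧ ∀ i, e i < p) →
      (Finsupp.linearCombination (pPowerSubalgebra p k K) (fun e => pMonomial x e)) l = 0 → l = 0 := by
  classical
  induction s using Finset.induction_on with
  | empty =>
    intro l hl h0
    have hsupp : l.support ⊆ {0} := fun e he => Finset.mem_singleton.2 (Finsupp.support_eq_empty.1 (Finset.subset_empty.1 (hl e he).1))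
    obtain ⟨b, rfl⟩ := Finsupp.support_subset_singleton'.1 hsupp
    rw [Finsupp.linearCombination_single] at h0
    have hb : b = 0 := Subtype.ext (by simpa [pMonomial, Subalgebra.smul_def] using h0)
    rw [hb, Finsupp.single_zero]
  | insert a s ha ih =>
    intro l hl h0
    let S : Set K := x '' {b | b ≠ a}
    have hmon : ∀ e : ι →₀ ℕ, pMonomial x (e.erase a) ∈ F p k S := fun e => by
      refine Subalgebra.prod_mem _ fun i hi => _root_.pow_mem (subset_F S ⟨i, ?_, rfl⟩) _
      rw [Finsupp.support_erase] at hi
      exact (Finset.mem_erase.1 hi).1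
    have hC : ∀ c : pPowerSubalgebra p k K, (c : K) ∈ F p k S := fun c => Algebra.adjoin_mono Set.subset_union_left c.2
    let term : (ι →₀ ℕ) → FF p k S := fun e => ⟨(l e : K) * pMonomial x (e.erase a), (mul_mem (hC _) (hmon e) : _ ∈ F p k S)⟩
    let Q : Polynomial (FF p k S) := ∑ e ∈ l.support, Polynomial.monomial (e a) (term e)
    have hQ0 : Q = 0 := by
      obtain ⟨hdeg, hint⟩ := natDegree_minpoly (h a)
      by_contra hQ
      have hev : Polynomial.aeval (x a) Q = 0 := by
        rw [map_sum, ← h0, Finsupp.linearCombination_apply, Finsupp.sum]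
        refine Finset.sum_congr rfl fun e _ => ?_
        rw [Polynomial.aeval_monomial, Subalgebra.smul_def, smul_eq_mul, IntermediateField.algebraMap_apply]
        show (l e : K) * pMonomial x (e.erase a) * x a ^ e a = (l e : K) * pMonomial x e
        rw [mul_assoc]
        congr 1
        rw [pMonomial, pMonomial, mul_comm]
        exact Finsupp.mul_prod_erase' e a (fun i n => x i ^ n) fun i => pow_zero _
      have h1 := Polynomial.natDegree_le_natDegree (minpoly.degree_le_of_ne_zero (FF p k S) (x a) hQ hev)
      rw [hdeg] at h1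
      have h2 : Q.natDegree ≤ p - 1 := by
        refine Polynomial.natDegree_sum_le_of_forall_le _ _ fun e he => (Polynomial.natDegree_monomial_le _).trans ?_
        have := (hl e he).2 a
        omega
      have := (Fact.out : p.Prime).pos
      omega
    refine Finsupp.ext fun e => ?_
    by_cases he : e ∈ l.support
    · have hcoef := congrArg (fun q : Polynomial (FF p k S) => ((Polynomial.coeff q (e a) : FF p k S) : K)) hQ0
      simp only [Q, Polynomial.finsetSum_coeff, Polynomial.coeff_monomial, Polynomial.coeff_zero] at hcoef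
      let T := l.support.filter fun e' => e' a = e a
      let l' : (ι →₀ ℕ) →₀ pPowerSubalgebra p k K := ∑ e' ∈ T, Finsupp.single (e'.erase a) (l e')
      have hinj : ∀ e' ∈ T, e'.erase a = e.erase a → e' = e := fun e' he' hee => by
        ext i
        by_cases hi : i = a
        · subst hi; exact (Finset.mem_filter.1 he').2
        · have := DFunLike.congr_fun hee i
          rwa [Finsupp.erase_ne hi, Finsupp.erase_ne hi] at this
      have hl' : ∀ f ∈ l'.support, f.support ⊆ s ∧ ∀ i, f i < p := by
        intro f hf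
        obtain ⟨e', he', hfe⟩ : ∃ e' ∈ T, f ∈ (Finsupp.single (e'.erase a) (l e')).support := by
          simpa using Finsupp.support_finsetSum hf
        obtain rfl := Finset.mem_singleton.1 (Finsupp.support_single_subset hfe)
        obtain ⟨h1, h2⟩ := hl e' (Finset.mem_filter.1 he').1
        refine ⟨fun i hi => ?_, fun i => ?_⟩
        · rw [Finsupp.support_erase] at hi
          exact (Finset.mem_insert.1 (h1 (Finset.mem_erase.1 hi).2)).resolve_left (Finset.mem_erase.1 hi).1
        · by_cases hi : i = a
          · subst hi; rw [Finsupp.erase_same]; exact (Fact.out : p.Prime).pos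
          · rw [Finsupp.erase_ne hi]; exact h2 i
      have hl'0 : Finsupp.linearCombination (pPowerSubalgebra p k K) (fun e => pMonomial x e) l' = 0 := by
        rw [map_sum]
        refine Eq.trans ?_ hcoef
        rw [AddSubmonoidClass.coe_finsetSum, ← Finset.sum_filter_add_sum_filter_not l.support (fun e' => e' a = e a)]
        rw [show ∑ e' ∈ l.support.filter (fun e' => ¬ e' a = e a), ((if e' a = e a then term e' else 0 : FF p k S) : K) = 0 from
          Finset.sum_eq_zero fun e' he' => by rw [if_neg (Finset.mem_filter.1 he').2]; rfl, add_zero]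
        refine Finset.sum_congr rfl fun e' he' => ?_
        rw [if_pos (Finset.mem_filter.1 he').2, Finsupp.linearCombination_single, Subalgebra.smul_def, smul_eq_mul]
      have hz := DFunLike.congr_fun (ih l' hl' hl'0) (e.erase a)
      rw [Finsupp.finsetSum_apply, Finset.sum_eq_single e] at hz
      · rwa [Finsupp.single_eq_same] at hz
      · intro e' he' hne
        exact Finsupp.single_eq_of_ne fun hh => hne (hinj e' he' hh.symm)
      · intro hne
        exact absurd ((Finset.mem_filter (s := l.support) (p := fun e' => e' a = e a)).2 ⟨he, rfl⟩) hne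
    · simpa using Finsupp.notMem_support_iff.1 he

theorem isPIndependent_iff {ι : Type u} (x : ι → K) :
    IsPIndependent p k x ↔ ∀ a : ι, x a ∉ F p k (x '' {b | b ≠ a}) := by
  classical
  constructor
  · intro h a ha
    let y : {b : ι // b ≠ a} → K := fun b => x b.1
    have hy : Set.range y = x '' {b | b ≠ a} := by ext; simp [y]
    rw [← hy, ← mem_adjoin_C_iff, ← Subalgebra.mem_toSubmodule, ← span_eq_adjoin (Fact.out : p.Prime).pos,
      ← Finsupp.range_linearCombination] at ha
    obtain ⟨R, hR⟩ := ha
    let emb : {e : {b : ι // b ≠ a} →₀ ℕ // ∀ i, e i < p} → {e : ι →₀ ℕ // ∀ i, e i < p} := fun e =>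
      ⟨e.1.embDomain (Function.Embedding.subtype _), fun i => by
        by_cases hi : i = a
        · rw [Finsupp.embDomain_notin_range _ _ _ (by simp [hi])]; exact (Fact.out : p.Prime).pos
        · have := e.2 ⟨i, hi⟩
          rwa [← Finsupp.embDomain_apply_self (Function.Embedding.subtype _) e.1] at this⟩
    let sa : {e : ι →₀ ℕ // ∀ i, e i < p} := ⟨Finsupp.single a 1, fun i => by
      rw [Finsupp.single_apply]; split_ifs <;> [exact (Fact.out : p.Prime).one_lt; exact (Fact.out : p.Prime).pos]⟩
    have hne : ∀ e, emb e ≠ sa := fun e he => by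
      have h1 : (emb e).1 a = sa.1 a := by rw [he]
      rw [Finsupp.embDomain_notin_range _ _ _ (by simp)] at h1
      simp [sa] at h1
    have key : Finsupp.linearCombination (pPowerSubalgebra p k K) (fun e : {e : ι →₀ ℕ // ∀ i, e i < p} => pMonomial x e.1)
        (R.mapDomain emb - Finsupp.single sa 1) = 0 := by
      rw [map_sub, Finsupp.linearCombination_mapDomain, Finsupp.linearCombination_single, one_smul, sub_eq_zero]
      refine Eq.trans ?_ (hR.trans (by simp [sa, pMonomial]))
      refine congrArg (fun f => Finsupp.linearCombination (pPowerSubalgebra p k K) f R) (funext fun e => ?_)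
      show pMonomial x (e.1.embDomain _) = pMonomial y e.1
      rw [pMonomial, pMonomial, Finsupp.prod_embDomain]
      rfl
    have h0 := DFunLike.congr_fun (linearIndependent_iff.1 h _ key) sa
    rw [Finsupp.sub_apply, Finsupp.mapDomain_of_notMem_range _ _ (by simpa using hne), Finsupp.single_eq_same] at h0
    simp at h0
  · intro h
    refine linearIndependent_iff.2 fun l hl => ?_
    let l' := l.mapDomain Subtype.val
    have := linearCombination_eq_zero h (l.support.biUnion fun e => e.1.support) l' (fun e he => by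
      obtain ⟨e', he', rfl⟩ := Finset.mem_image.1 (Finsupp.mapDomain_support he)
      exact ⟨Finset.subset_biUnion_of_mem (fun e => e.1.support) he', e'.2⟩)
      (by rw [Finsupp.linearCombination_mapDomain]; exact hl)
    exact Finsupp.mapDomain_injective Subtype.val_injective (this.trans Finsupp.mapDomain_zero.symm)

variable (p k) in
/-- Independence of a set. -/
def Indep (B : Set K) : Prop := ∀ a ∈ B, a ∉ F p k (B \ {a})

theorem isPIndependent_set_iff (B : Set K) : IsPIndependent p k (Subtype.val : B → K) ↔ Indep p k B := by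
  rw [isPIndependent_iff]
  have h : ∀ a : B, (Subtype.val : B → K) '' {b | b ≠ a} = B \ {(a : K)} := fun a => by
    ext z
    simp only [Set.mem_image, Set.mem_ofPred_eq, Set.mem_sdiff, Set.mem_singleton_iff]
    exact ⟨fun ⟨b, hb, hz⟩ => hz ▸ ⟨b.2, fun e => hb (Subtype.ext e)⟩, fun ⟨hzB, hza⟩ => ⟨⟨z, hzB⟩, fun e => hza (congrArg Subtype.val e), rfl⟩⟩
  exact ⟨fun H a ha => h ⟨a, ha⟩ ▸ H ⟨a, ha⟩, fun H a => (h a).symm ▸ H a a.2⟩

theorem Indep.insert {M : Set K} (hM : Indep p k M) {s : K} (hs : s ∉ F p k M) : Indep p k (insert s M) := by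
  intro a ha hmem
  rcases Set.mem_insert_iff.1 ha with rfl | haM
  · exact hs (F_mono (fun z hz => (Set.mem_insert_iff.1 hz.1).resolve_left hz.2) hmem)
  · let S := M \ {a}
    have hsS : s ∉ F p k S := fun h => hs (F_mono Set.sdiff_subset h)
    obtain ⟨hda, hia⟩ := natDegree_minpoly (hM a haM)
    obtain ⟨hds, his⟩ := natDegree_minpoly hsS
    have hle : IntermediateField.adjoin (FF p k S) {a} ≤ IntermediateField.adjoin (FF p k S) {s} := by
      rw [IntermediateField.adjoin_simple_le_iff]
      have hF : F p k (Insert.insert s M \ {a}) ≤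
          ((IntermediateField.adjoin (FF p k S) {s}).restrictScalars k).toSubalgebra := by
        refine Algebra.adjoin_le (Set.union_subset ?_ ?_)
        · rintro _ ⟨b, rfl⟩
          exact IntermediateField.algebraMap_mem (IntermediateField.adjoin (FF p k S) {s}) (⟨b ^ p, pow_mem_F S b⟩ : FF p k S)
        · rintro z ⟨hz, hza⟩
          rcases Set.mem_insert_iff.1 hz with rfl | hzM
          · exact IntermediateField.mem_adjoin_simple_self _ z
          · exact IntermediateField.algebraMap_mem (IntermediateField.adjoin (FF p k S) {s}) (⟨z, subset_F S ⟨hzM, hza⟩⟩ : FF p k S)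
      exact hF hmem
    haveI := IntermediateField.adjoin.finiteDimensional his
    have heq := IntermediateField.eq_of_le_of_finrank_eq hle (by
      rw [IntermediateField.adjoin.finrank hia, IntermediateField.adjoin.finrank his, hda, hds])
    have hsa : s ∈ IntermediateField.adjoin (FF p k S) {a} := heq ▸ IntermediateField.mem_adjoin_simple_self _ s
    refine hs ?_
    have hle2 : (IntermediateField.adjoin (FF p k S) {a}).restrictScalars k ≤ FF p k M := by
      rw [← adjoin_eq_FF, IntermediateField.adjoin_adjoin_left, IntermediateField.adjoin_le_iff]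
      rintro z ((⟨b, rfl⟩ | hz) | hz)
      · exact pow_mem_F M b
      · exact subset_F M hz.1
      · exact subset_F M (by rw [Set.mem_singleton_iff.1 hz]; exact haM)
    exact hle2 hsa

/-- Extend an independent set inside `S` to one generating `k(Kᵖ, S)`. -/
theorem exists_maximal {L S : Set K} (hLS : L ⊆ S) (hL : Indep p k L) :
    ∃ B : Set K, L ⊆ B ∧ B ⊆ S ∧ Indep p k B ∧ S ⊆ (F p k B : Set K) := by
  obtain ⟨B, hLB, ⟨⟨hBS, hB⟩, hmax⟩⟩ := zorn_subset_nonempty {B : Set K | B ⊆ S ∧ Indep p k B}
    (fun c hc hchain hne => ⟨⋃₀ c, ⟨Set.sUnion_subset fun B hB => (hc hB).1, fun a ha hmem => by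
      have hfin : ∀ z ∈ F p k (⋃₀ c \ {a}), ∃ B ∈ c, z ∈ F p k (B \ {a}) := by
        intro z hz
        induction hz using Algebra.adjoin_induction with
        | mem w hw =>
          rcases hw with ⟨b, rfl⟩ | ⟨⟨B, hB, hwB⟩, hwa⟩
          · obtain ⟨B, hB⟩ := hne; exact ⟨B, hB, pow_mem_F _ b⟩
          · exact ⟨B, hB, subset_F _ ⟨hwB, hwa⟩⟩
        | algebraMap r => obtain ⟨B, hB⟩ := hne; exact ⟨B, hB, Subalgebra.algebraMap_mem _ r⟩
        | add u v _ _ hu hv =>
          obtain ⟨B, hB, hu⟩ := hu
          obtain ⟨B', hB', hv⟩ := hv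
          rcases hchain.total hB hB' with hle | hle
          · exact ⟨B', hB', add_mem (F_mono (Set.sdiff_subset_sdiff_left hle) hu) hv⟩
          · exact ⟨B, hB, add_mem hu (F_mono (Set.sdiff_subset_sdiff_left hle) hv)⟩
        | mul u v _ _ hu hv =>
          obtain ⟨B, hB, hu⟩ := hu
          obtain ⟨B', hB', hv⟩ := hv
          rcases hchain.total hB hB' with hle | hle
          · exact ⟨B', hB', mul_mem (F_mono (Set.sdiff_subset_sdiff_left hle) hu) hv⟩
          · exact ⟨B, hB, mul_mem hu (F_mono (Set.sdiff_subset_sdiff_left hle) hv)⟩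
      obtain ⟨B, hB, haB⟩ := hfin a hmem
      obtain ⟨B', hB', haB'⟩ := ha
      rcases hchain.total hB hB' with hle | hle
      · exact (hc hB').2 a haB' (F_mono (Set.sdiff_subset_sdiff_left hle) haB)
      · exact (hc hB).2 a (hle haB') haB⟩,
      fun B hB => Set.subset_sUnion_of_mem hB⟩) L ⟨hLS, hL⟩
  refine ⟨B, hLB, hBS, hB, fun s hs => ?_⟩
  by_contra hsB
  have h := hmax (y := Insert.insert s B) ⟨Set.insert_subset hs hBS, hB.insert hsB⟩ (Set.subset_insert s B)
  exact hsB (subset_F B (h (Set.mem_insert s B)))

/-- Differentials of `k(Kᵖ, S)` are spanned by those of `S`. -/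
theorem D_mem_span (S : Set K) {b : K} (hb : b ∈ F p k S) :
    KaehlerDifferential.D k K b ∈ Submodule.span K (KaehlerDifferential.D k K '' S) := by
  induction hb using Algebra.adjoin_induction with
  | mem y hy =>
    rcases hy with ⟨z, rfl⟩ | hy
    · show KaehlerDifferential.D k K (z ^ p) ∈ _
      rw [Derivation.leibniz_pow, ← Nat.cast_smul_eq_nsmul K, CharP.cast_eq_zero K p, zero_smul]
      exact zero_mem _
    · exact Submodule.subset_span ⟨y, hy, rfl⟩
  | algebraMap r => rw [Derivation.map_algebraMap]; exact zero_mem _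
  | add y z _ _ hy hz => rw [map_add]; exact add_mem hy hz
  | mul y z _ _ hy hz => rw [Derivation.leibniz]; exact add_mem (Submodule.smul_mem _ _ hz) (Submodule.smul_mem _ _ hy)

end Groth.Agent.PBasisLib
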