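import Groth.Prelude.Def_EGA41
import Mathlib.Algebra.MvPolynomial.Eval
import Mathlib.Algebra.CharP.Lemmas

/-!
The presentation attached to a `p`-basis, as a universal property.
-/

set_option autoImplicit false
universe u v

namespace Groth.Agent.PBasisLib

variable {p : ℕ} {A B : Type u} [CommRing A] [CommRing B] [Algebra A B] {ι : Type u}

open EGA41 (pPowerSubalgebra pMonomial IsPBasis IsPGenerating IsPIndependent)

theorem pow_mem (b : B) : b ^ p ∈ pPowerSubalgebra p A B := Algebra.subset_adjoin ⟨b, rfl⟩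

/-- If all `p`-th powers come from `A`, then `A[B^p]` is the image of `A`. -/
theorem pPower_eq_bot (hpow : ∀ b : B, b ^ p ∈ Set.range (algebraMap A B)) : pPowerSubalgebra p A B = ⊥ := by
  refine le_antisymm (Algebra.adjoin_le ?_) bot_le
  rintro _ ⟨b, rfl⟩
  exact Algebra.mem_bot.2 (hpow b)

theorem mem_adjoin_pMonomial {x : ι → B} (e : ι →₀ ℕ) :
    pMonomial x e ∈ Algebra.adjoin (pPowerSubalgebra p A B) (Set.range x) :=
  Subalgebra.prod_mem _ fun i _ => Subalgebra.pow_mem _ (Algebra.subset_adjoin (Set.mem_range_self i)) _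

/-- Every polynomial reduces to one with exponents `< p` modulo the relations `X i ^ p = c i`. -/
theorem exists_reduced {C : Type v} [CommRing C] (hp : 0 < p) (c : ι → C) (P : MvPolynomial ι C) :
    ∃ R : ({e : ι →₀ ℕ // ∀ i, e i < p}) →₀ C, P - R.sum (fun e a => MvPolynomial.monomial e.1 a) ∈
      Ideal.span (Set.range fun i => MvPolynomial.X i ^ p - MvPolynomial.C (c i)) := by
  classical
  set J : Ideal (MvPolynomial ι C) := Ideal.span (Set.range fun i => MvPolynomial.X i ^ p - MvPolynomial.C (c i))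
  induction P using MvPolynomial.induction_on' with
  | monomial d a =>
    let r : ι →₀ ℕ := d.mapRange (· % p) (Nat.zero_mod p)
    refine ⟨Finsupp.single ⟨r, fun i => Nat.mod_lt _ hp⟩ (a * d.prod fun i n => c i ^ (n / p)), ?_⟩
    rw [Finsupp.sum_single_index (by simp), ← Ideal.Quotient.mk_eq_mk_iff_sub_mem]
    have hX : ∀ i, Ideal.Quotient.mk J (MvPolynomial.X i) ^ p = Ideal.Quotient.mk J (MvPolynomial.C (c i)) := fun i => by
      rw [← map_pow]
      exact Ideal.Quotient.mk_eq_mk_iff_sub_mem _ _ |>.2 (Ideal.subset_span ⟨i, rfl⟩)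
    rw [MvPolynomial.monomial_eq, MvPolynomial.monomial_eq, map_mul, map_mul, MvPolynomial.C_mul, map_mul, mul_assoc]
    congr 1
    simp only [map_finsuppProd, map_pow, r]
    rw [Finsupp.prod_mapRange_index (fun i => by rw [pow_zero]), ← Finsupp.prod_mul]
    refine Finsupp.prod_congr fun i _ => ?_
    rw [← hX i, ← pow_mul, ← pow_add, Nat.div_add_mod]
  | add P Q hP hQ =>
    obtain ⟨R, hR⟩ := hP
    obtain ⟨R', hR'⟩ := hQ
    refine ⟨R + R', ?_⟩
    rw [Finsupp.sum_add_index' (fun e => map_zero _) (fun e a b => map_add _ a b), add_sub_add_comm]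
    exact add_mem hR hR'

/-- A reduced combination maps to the linear combination of monomials. -/
theorem aeval_reduced (x : ι → B) (R : ({e : ι →₀ ℕ // ∀ i, e i < p}) →₀ pPowerSubalgebra p A B) :
    MvPolynomial.aeval x (R.sum fun e a => MvPolynomial.monomial e.1 a) =
      Finsupp.linearCombination (pPowerSubalgebra p A B) (fun e : {e : ι →₀ ℕ // ∀ i, e i < p} => pMonomial x e.1) R := by
  rw [map_finsuppSum, Finsupp.linearCombination_apply]
  refine Finsupp.sum_congr fun e _ => ?_
  rw [MvPolynomial.aeval_monomial, Algebra.smul_def]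
  rfl

theorem aeval_rel (x : ι → B) {P : MvPolynomial ι (pPowerSubalgebra p A B)}
    (hP : P ∈ Ideal.span (Set.range fun i => MvPolynomial.X i ^ p - MvPolynomial.C (⟨x i ^ p, pow_mem (x i)⟩ : pPowerSubalgebra p A B))) :
    MvPolynomial.aeval x P = 0 := by
  refine (Ideal.span_le.2 ?_ : _ ≤ RingHom.ker (MvPolynomial.aeval x).toRingHom) hP
  rintro _ ⟨i, rfl⟩
  show MvPolynomial.aeval x (_ : MvPolynomial ι (pPowerSubalgebra p A B)) = 0
  simp [Subalgebra.algebraMap_eq]

/-- The monomials span exactly the subalgebra generated by the family. -/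
theorem span_eq_adjoin (hp : 0 < p) (x : ι → B) :
    Submodule.span (pPowerSubalgebra p A B) (Set.range fun e : {e : ι →₀ ℕ // ∀ i, e i < p} => pMonomial x e.1) =
      (Algebra.adjoin (pPowerSubalgebra p A B) (Set.range x)).toSubmodule := by
  refine le_antisymm (Submodule.span_le.2 ?_) fun b hb => ?_
  · rintro _ ⟨e, rfl⟩; exact mem_adjoin_pMonomial e.1
  · obtain ⟨P, hP⟩ : ∃ P : MvPolynomial ι (pPowerSubalgebra p A B), MvPolynomial.aeval x P = b := by
      rw [Subalgebra.mem_toSubmodule, Algebra.adjoin_range_eq_range_aeval] at hb; exact hb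
    obtain ⟨R, hR⟩ := exists_reduced hp (fun i => (⟨x i ^ p, pow_mem (x i)⟩ : pPowerSubalgebra p A B)) P
    have h := aeval_rel x hR
    rw [map_sub, hP, sub_eq_zero, aeval_reduced] at h
    rw [h, ← Finsupp.range_linearCombination]
    exact LinearMap.mem_range_self _ R

theorem isPGenerating_iff_adjoin (hp : 0 < p) (x : ι → B) :
    IsPGenerating p A x ↔ Algebra.adjoin (pPowerSubalgebra p A B) (Set.range x) = ⊤ := by
  unfold EGA41.IsPGenerating
  rw [span_eq_adjoin hp x, Algebra.toSubmodule_eq_top]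

theorem hom_ext (hp : 0 < p) {x : ι → B} (hx : IsPGenerating p A x) {T : Type v} [CommRing T] {ψ ψ' : B →+* T}
    (hC : ∀ a : pPowerSubalgebra p A B, ψ a = ψ' a) (hxi : ∀ i, ψ (x i) = ψ' (x i)) : ψ = ψ' := by
  refine RingHom.ext fun b => ?_
  have hb : b ∈ Algebra.adjoin (pPowerSubalgebra p A B) (Set.range x) := by
    rw [(isPGenerating_iff_adjoin hp x).1 hx]; trivial
  induction hb using Algebra.adjoin_induction with
  | mem y hy => obtain ⟨i, rfl⟩ := hy; exact hxi i
  | algebraMap r => exact hC r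
  | add y z _ _ hy hz => rw [map_add, map_add, hy, hz]
  | mul y z _ _ hy hz => rw [map_mul, map_mul, hy, hz]

/-- Universal property of a `p`-basis. -/
theorem exists_lift (hp : 0 < p) {x : ι → B} (hx : IsPBasis p A x) {T : Type v} [CommRing T]
    (φ : pPowerSubalgebra p A B →+* T) (t : ι → T)
    (ht : ∀ i, t i ^ p = φ ⟨x i ^ p, pow_mem (x i)⟩) :
    ∃ ψ : B →+* T, (∀ a : pPowerSubalgebra p A B, ψ a = φ a) ∧ ∀ i, ψ (x i) = t i := by
  classical
  let C := pPowerSubalgebra p A B
  let ev : MvPolynomial ι C →+* B := (MvPolynomial.aeval x).toRingHom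
  let J : Ideal (MvPolynomial ι C) :=
    Ideal.span (Set.range fun i => MvPolynomial.X i ^ p - MvPolynomial.C (⟨x i ^ p, pow_mem (x i)⟩ : C))
  have hker : RingHom.ker ev ≤ J := fun P hP => by
    obtain ⟨R, hR⟩ := exists_reduced hp (fun i => (⟨x i ^ p, pow_mem (x i)⟩ : C)) P
    have h := aeval_rel x hR
    rw [map_sub, show MvPolynomial.aeval x P = 0 from hP, zero_sub, neg_eq_zero, aeval_reduced] at h
    rw [linearIndependent_iff.1 hx.1 R h, Finsupp.sum_zero_index, sub_zero] at hR
    exact hR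
  have hsurj : Function.Surjective ev := fun b => by
    have hb : b ∈ Algebra.adjoin C (Set.range x) := by rw [(isPGenerating_iff_adjoin hp x).1 hx.2]; trivial
    rw [Algebra.adjoin_range_eq_range_aeval] at hb
    exact hb
  let Φ : MvPolynomial ι C →+* T := MvPolynomial.eval₂Hom φ t
  have hJ : J ≤ RingHom.ker Φ := by
    refine Ideal.span_le.2 ?_
    rintro _ ⟨i, rfl⟩
    show Φ _ = 0
    simp [Φ, ht]
  refine ⟨RingHom.liftOfSurjective ev hsurj ⟨Φ, hker.trans hJ⟩, fun a => ?_, fun i => ?_⟩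
  · have h : ev (MvPolynomial.C a) = a := by simp [ev, Subalgebra.algebraMap_eq]
    rw [← h, RingHom.liftOfRightInverse_comp_apply]
    simp [Φ]
  · have h : ev (MvPolynomial.X i) = x i := by simp [ev]
    rw [← h, RingHom.liftOfRightInverse_comp_apply]
    simp [Φ]

/-- Universal property when all `p`-th powers come from `A`. -/
theorem exists_algHom (hp : 0 < p) (hinj : Function.Injective (algebraMap A B))
    (hpow : ∀ b : B, b ^ p ∈ Set.range (algebraMap A B)) {x : ι → B} (hx : IsPBasis p A x) {T : Type v} [CommRing T]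
    (φ : A →+* T) (t : ι → T) (ht : ∀ (i : ι) (a : A), algebraMap A B a = x i ^ p → t i ^ p = φ a) :
    ∃ ψ : B →+* T, (∀ a : A, ψ (algebraMap A B a) = φ a) ∧ ∀ i, ψ (x i) = t i := by
  have hC : ∀ c : pPowerSubalgebra p A B, ∃ a : A, algebraMap A B a = c := fun c =>
    Algebra.mem_bot.1 ((pPower_eq_bot hpow).le c.2)
  choose g hg using hC
  let gh : pPowerSubalgebra p A B →+* A :=
    { toFun := g
      map_one' := hinj (by rw [hg, map_one]; rfl)
      map_mul' := fun a b => hinj (by rw [hg, map_mul, hg, hg]; rfl)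
      map_zero' := hinj (by rw [hg, map_zero]; rfl)
      map_add' := fun a b => hinj (by rw [hg, map_add, hg, hg]; rfl) }
  obtain ⟨ψ, h1, h2⟩ := exists_lift hp hx (φ.comp gh) t (fun i => ht i _ (hg _))
  refine ⟨ψ, fun a => ?_, h2⟩
  have := h1 (algebraMap A (pPowerSubalgebra p A B) a)
  rw [show ((algebraMap A (pPowerSubalgebra p A B) a : pPowerSubalgebra p A B) : B) = algebraMap A B a from rfl] at this
  rw [this, RingHom.comp_apply]
  exact congrArg φ (hinj (hg _))

theorem hom_ext' (hp : 0 < p) (hpow : ∀ b : B, b ^ p ∈ Set.range (algebraMap A B)) {x : ι → B}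
    (hx : IsPGenerating p A x) {T : Type v} [CommRing T] {ψ ψ' : B →+* T}
    (hA : ∀ a : A, ψ (algebraMap A B a) = ψ' (algebraMap A B a)) (hxi : ∀ i, ψ (x i) = ψ' (x i)) : ψ = ψ' :=
  hom_ext hp hx (fun c => by
    obtain ⟨a, ha⟩ := Algebra.mem_bot.1 ((pPower_eq_bot hpow).le c.2)
    rw [← ha]; exact hA a) hxi

end Groth.Agent.PBasisLib
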